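import Mathlib
import Cfsg.Agent.Lib.Helper41.CS3.GoodDefs

/-!
# CS3 (S4284), part GOOD: package [EXY]

A non-abelian `s`-subgroup `S` has an element `y` of `Z_2(S) \ Z(S)` with `y ^ s ∈ Z(S)`:
lift an element of order `s` of the centre of `S / Z(S)`.
-/

set_option autoImplicit false

namespace Cfsg.Agent.Lib.Helper26.CS3

open Cfsg.Agent.Lib.Helper41.CS3

universe u

/-- [EXY] -/
theorem pkgExy : PkgExy.{u} := by
  intro G _ _ s hs S hS hnab
  haveI : Fact s.Prime := ⟨hs⟩
  classical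
  have hZtop : Subgroup.center ↥S ≠ ⊤ := by
    intro htop
    apply hnab
    intro x hx y hy
    have hx' : (⟨x, hx⟩ : ↥S) ∈ Subgroup.center ↥S := htop ▸ Subgroup.mem_top _
    have h1 := Subgroup.mem_center_iff.mp hx' ⟨y, hy⟩
    have h2 := congrArg Subtype.val h1
    simpa using h2.symm
  haveI : Nontrivial (↥S ⧸ Subgroup.center ↥S) := by
    rw [← not_subsingleton_iff_nontrivial]
    intro hsub
    exact hZtop (QuotientGroup.subgroup_eq_top_of_subsingleton _ hsub)
  have hQ : IsPGroup s (↥S ⧸ Subgroup.center ↥S) := IsPGroup.to_quotient hS _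
  haveI : Nontrivial (Subgroup.center (↥S ⧸ Subgroup.center ↥S)) := hQ.center_nontrivial
  have hdvd : s ∣ Nat.card (Subgroup.center (↥S ⧸ Subgroup.center ↥S)) := by
    rcases (hQ.to_subgroup (Subgroup.center (↥S ⧸ Subgroup.center ↥S))).card_eq_or_dvd with h | h
    · have := Finite.one_lt_card_iff_nontrivial.mpr
        (inferInstance : Nontrivial (Subgroup.center (↥S ⧸ Subgroup.center ↥S)))
      omega
    · exact h
  obtain ⟨c, hc⟩ := exists_prime_orderOf_dvd_card' s hdvd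
  obtain ⟨y0, hy0⟩ := QuotientGroup.mk_surjective (c : ↥S ⧸ Subgroup.center ↥S)
  have hc1 : (c : ↥S ⧸ Subgroup.center ↥S) ≠ 1 := by
    intro h
    have h1 : c = 1 := Subtype.ext h
    rw [h1, orderOf_one] at hc
    exact hs.one_lt.ne hc
  have hcs : (c : ↥S ⧸ Subgroup.center ↥S) ^ s = 1 := by
    have h1 : c ^ s = 1 := by rw [← hc]; exact pow_orderOf_eq_one c
    have h2 := congrArg Subtype.val h1
    simpa using h2
  have hcc : ∀ q : ↥S ⧸ Subgroup.center ↥S,
      q * (c : ↥S ⧸ Subgroup.center ↥S) = (c : ↥S ⧸ Subgroup.center ↥S) * q :=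
    fun q => Subgroup.mem_center_iff.mp c.2 q
  -- transfer of central elements of `↥S` to `G`
  have hcen : ∀ z : ↥S, z ∈ Subgroup.center ↥S → ∀ τ ∈ S, (z : G) * τ = τ * (z : G) := by
    intro z hz τ hτ
    have h1 := Subgroup.mem_center_iff.mp hz ⟨τ, hτ⟩
    have h2 := congrArg Subtype.val h1
    simpa using h2.symm
  refine ⟨(y0 : G), y0.2, ?_, ?_, ?_, ?_⟩
  · obtain ⟨k, hk⟩ := hS y0
    have hd : orderOf y0 ∣ s ^ k := orderOf_dvd_of_pow_eq_one hk
    obtain ⟨j, _, hj⟩ := (Nat.dvd_prime_pow hs).mp hd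
    exact ⟨j, by rw [Subgroup.orderOf_coe]; exact hj⟩
  · have hy0Z : y0 ∉ Subgroup.center ↥S := by
      intro hmem
      apply hc1
      rw [← hy0]
      exact (QuotientGroup.eq_one_iff y0).mpr hmem
    rw [Subgroup.mem_center_iff] at hy0Z
    push_neg at hy0Z
    obtain ⟨g, hg⟩ := hy0Z
    refine ⟨(g : G), g.2, ?_⟩
    intro h
    apply hg
    apply Subtype.ext
    simpa using h.symm
  · intro σ hσ τ hτ
    have hz : (⟨σ, hσ⟩ : ↥S) * y0 * (⟨σ, hσ⟩ : ↥S)⁻¹ * y0⁻¹ ∈ Subgroup.center ↥S := by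
      rw [← QuotientGroup.eq_one_iff]
      simp only [QuotientGroup.mk_mul, QuotientGroup.mk_inv, hy0]
      rw [hcc]
      group
    have h1 := hcen _ hz τ hτ
    simpa using h1
  · intro τ hτ
    have hz : y0 ^ s ∈ Subgroup.center ↥S := by
      rw [← QuotientGroup.eq_one_iff]
      simp only [QuotientGroup.mk_pow, hy0]
      exact hcs
    have h1 := hcen _ hz τ hτ
    simpa using h1

end Cfsg.Agent.Lib.Helper26.CS3
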