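import Mathlib
import Cfsg.Agent.Lib.Helper41.CS3.GoodDefs

/-!
# CS3 (S4284), part GOOD: packages [SPLIT] and [PRIM]

* `pkgSplit`: `g = g1 * g2` with `g1` a `p`-element, `g2` a `p'`-element, both powers of `g`.
* `pkgPrim_of`: a non-central power of prime power order for a prime `≠ t`, or `x` is a
  `t`-element times a central element.
-/

set_option autoImplicit false

namespace Cfsg.Agent.Lib.Helper26.CS3

open Cfsg.Agent.Lib.Helper41.CS3

universe u

/-- [SPLIT] -/
theorem pkgSplit : PkgSplit.{u} := by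
  intro G _ _ p hp g
  have hn : 0 < orderOf g := orderOf_pos g
  obtain ⟨e, c, hc, hnc⟩ := Nat.exists_eq_pow_mul_and_not_dvd hn.ne' p hp.ne_one
  have hpc : p.Coprime c := (Nat.Prime.coprime_iff_not_dvd hp).mpr hc
  have hcop : (p ^ e).Coprime c := Nat.Coprime.pow_left e hpc
  obtain ⟨u, hu1, hu2⟩ := Nat.chineseRemainder hcop 1 0
  obtain ⟨v, hv1, hv2⟩ := Nat.chineseRemainder hcop 0 1
  refine ⟨g ^ u, g ^ v, ?_, ?_, ?_, ⟨u, rfl⟩, ⟨v, rfl⟩⟩
  · rw [← pow_add]
    have h1 : u + v ≡ 1 [MOD orderOf g] := by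
      rw [hnc]
      apply (Nat.modEq_and_modEq_iff_modEq_mul hcop).mp
      constructor
      · simpa using hu1.add hv1
      · simpa using hu2.add hv2
    have h := (pow_eq_pow_iff_modEq (x := g)).mpr h1
    rw [h, pow_one]
  · have hcu : c ∣ u := (Nat.modEq_zero_iff_dvd).mp hu2
    have h1 : (g ^ u) ^ (p ^ e) = 1 := by
      rw [← pow_mul]
      apply orderOf_dvd_iff_pow_eq_one.mp
      rw [hnc]
      obtain ⟨k, rfl⟩ := hcu
      exact ⟨k, by ring⟩
    have hd : orderOf (g ^ u) ∣ p ^ e := orderOf_dvd_of_pow_eq_one h1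
    obtain ⟨k, _, hk⟩ := (Nat.dvd_prime_pow hp).mp hd
    exact ⟨k, hk⟩
  · have hpv : p ^ e ∣ v := (Nat.modEq_zero_iff_dvd).mp hv1
    have h1 : (g ^ v) ^ c = 1 := by
      rw [← pow_mul]
      apply orderOf_dvd_iff_pow_eq_one.mp
      rw [hnc]
      obtain ⟨k, rfl⟩ := hpv
      exact ⟨k, by ring⟩
    have hd : orderOf (g ^ v) ∣ c := orderOf_dvd_of_pow_eq_one h1
    exact Nat.Coprime.coprime_dvd_left hd hpc.symm

/-- a non-central element of order prime to `t` has a non-central power of prime power order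
for a prime different from `t`. -/
theorem prim_aux (hSplit : PkgSplit.{u}) {G : Type u} [Group G] [Finite G] (t : ℕ)
    (N : ℕ) : ∀ w : G, orderOf w ≤ N → (orderOf w).Coprime t → w ∉ Subgroup.center G →
      ∃ (r : ℕ) (u : G), r.Prime ∧ r ≠ t ∧ Prim r u ∧ u ∉ Subgroup.center G ∧
        ∃ k : ℕ, u = w ^ k := by
  induction N with
  | zero =>
    intro w hw _ _
    have := orderOf_pos w
    omega
  | succ N ih =>
    intro w hw hcop hnc
    have hw1 : orderOf w ≠ 1 := by
      intro h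
      rw [orderOf_eq_one_iff] at h
      exact hnc (h ▸ Subgroup.one_mem _)
    obtain ⟨r, hr, hrw⟩ := Nat.exists_prime_and_dvd hw1
    have hrt : r ≠ t := by
      rintro rfl
      have h1 : r ∣ Nat.gcd (orderOf w) r := Nat.dvd_gcd hrw dvd_rfl
      rw [Nat.Coprime] at hcop
      rw [hcop] at h1
      exact hr.one_lt.ne' (Nat.dvd_one.mp h1)
    obtain ⟨w1, w2, hw12, hp1, hc2, ⟨k1, hk1⟩, ⟨k2, hk2⟩⟩ := hSplit r hr w
    by_cases h1 : w1 ∈ Subgroup.center G
    · have h2 : w2 ∉ Subgroup.center G := by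
        intro h2
        exact hnc (hw12 ▸ Subgroup.mul_mem _ h1 h2)
      have hdvd : orderOf w2 ∣ orderOf w := by
        rw [hk2]
        exact orderOf_pow_dvd k2
      have hlt : orderOf w2 < orderOf w := by
        have hle := Nat.le_of_dvd (orderOf_pos w) hdvd
        rcases Nat.lt_or_ge (orderOf w2) (orderOf w) with h | h
        · exact h
        · exfalso
          have heq : orderOf w2 = orderOf w := le_antisymm hle h
          rw [heq] at hc2
          have h3 : r ∣ Nat.gcd (orderOf w) r := Nat.dvd_gcd hrw dvd_rfl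
          rw [Nat.Coprime] at hc2
          rw [hc2] at h3
          exact hr.one_lt.ne' (Nat.dvd_one.mp h3)
      obtain ⟨r', u, hr', hr't, hpu, hunc, k, hk⟩ :=
        ih w2 (by omega) (Nat.Coprime.coprime_dvd_left hdvd hcop) h2
      refine ⟨r', u, hr', hr't, hpu, hunc, k2 * k, ?_⟩
      rw [hk, hk2, pow_mul]
    · exact ⟨r, w1, hr, hrt, hp1, h1, k1, hk1⟩

/-- [PRIM] -/
theorem pkgPrim_of (hSplit : PkgSplit.{u}) : PkgPrim.{u} := by
  intro G _ _ t ht x
  obtain ⟨xt, x', hx, hpt, hc, ⟨k1, hk1⟩, ⟨k2, hk2⟩⟩ := hSplit t ht x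
  by_cases h : x' ∈ Subgroup.center G
  · exact Or.inr ⟨xt, x', hx, hpt, h⟩
  · left
    obtain ⟨r, u, hr, hrt, hpu, hunc, k, hk⟩ :=
      prim_aux hSplit t (orderOf x') x' le_rfl hc h
    refine ⟨r, u, hr, hrt, hpu, hunc, k2 * k, ?_⟩
    rw [hk, hk2, pow_mul]

/-- [PRIM], unconditional. -/
theorem pkgPrim : PkgPrim.{u} := pkgPrim_of pkgSplit

end Cfsg.Agent.Lib.Helper26.CS3
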